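import Groth.Agent.H26Tor.Kunneth.ZeroDiff
import Mathlib.Algebra.Homology.QuasiIso
import Mathlib.LinearAlgebra.Finsupp.LinearCombination
import Mathlib.LinearAlgebra.FreeModule.Basic
import Mathlib.LinearAlgebra.Finsupp.VectorSpace
import Mathlib.Algebra.Module.Projective

/-! A complex of free modules with split differential covering a complex and its cohomology. -/

set_option autoImplicit false

universe u

open CategoryTheory CategoryTheory.Limits MonoidalCategory TensorProduct

namespace Groth.Agent.H26Tor.Kunneth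

variable {A : Type u} [CommRing A] (M : DRing.Cx A)

namespace Cover

/-- Nonzero cycles. -/
def S (j : ℤ) : Type u := {z : M.cycles j // z ≠ 0}

/-- Elements which are not cycles. -/
def T (j : ℤ) : Type u := {m : M.X j // M.d j (j + 1) m ≠ 0}

/-- Elements which are not cycles, one degree below. -/
def T' (j : ℤ) : Type u := {t : Σ i : ℤ, T M i // t.1 + 1 = j}

variable {M} in
/-- The shift of indices. -/
def succT (j : ℤ) (t : T M j) : T' M (j + 1) := ⟨⟨j, t⟩, rfl⟩

theorem succT_bijective (j : ℤ) : Function.Bijective (succT (M := M) j) := by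
  constructor
  · intro a b h
    exact eq_of_heq (Sigma.mk.inj_iff.mp (Subtype.ext_iff.mp h)).2
  · rintro ⟨⟨i, t⟩, h⟩
    obtain rfl : i = j := by
      have : i + 1 = j + 1 := h
      omega
    exact ⟨t, rfl⟩

/-- The terms. -/
noncomputable abbrev obj (j : ℤ) : ModuleCat.{u} A :=
  ModuleCat.of A ((S M j →₀ A) × ((T M j →₀ A) × (T' M j →₀ A)))

/-- The differential. -/
noncomputable def d (j : ℤ) : obj M j ⟶ obj M (j + 1) :=
  ModuleCat.ofHom ((LinearMap.inr A _ _) ∘ₗ (LinearMap.inr A _ _) ∘ₗ (Finsupp.lmapDomain A A (succT (M := M) j)) ∘ₗ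
    (LinearMap.fst A _ _) ∘ₗ (LinearMap.snd A _ _))

theorem d_apply (j : ℤ) (x : obj M j) :
    d M j x = ((0, 0, Finsupp.lmapDomain A A (succT (M := M) j) x.2.1) : obj M (j + 1)) := rfl

theorem d_comp_d (j : ℤ) : d M j ≫ d M (j + 1) = 0 :=
  ModuleCat.hom_ext (LinearMap.ext fun x => by
    show d M (j + 1) (d M j x) = 0
    rw [d_apply, d_apply]
    simp)

/-- The covering complex. -/
noncomputable def cx : DRing.Cx A := CochainComplex.of (obj M) (d M) (d_comp_d M)

theorem cx_d (j : ℤ) : (cx M).d j (j + 1) = d M j := CochainComplex.of_d (obj M) (d M) j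

/-- The components of the covering map. -/
noncomputable def πf (j : ℤ) : obj M j ⟶ M.X j :=
  ModuleCat.ofHom (LinearMap.coprod (Finsupp.linearCombination A fun z : S M j => M.iCycles j z.1)
    (LinearMap.coprod (Finsupp.linearCombination A fun t : T M j => t.1)
      (Finsupp.linearCombination A fun t : T' M j => M.d t.1.1 j t.1.2.1)))

theorem πf_apply (j : ℤ) (x : obj M j) : πf M j x = Finsupp.linearCombination A (fun z : S M j => M.iCycles j z.1) x.1 +
    (Finsupp.linearCombination A (fun t : T M j => t.1) x.2.1 +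
      Finsupp.linearCombination A (fun t : T' M j => M.d t.1.1 j t.1.2.1) x.2.2) := rfl

/-- The covering map. -/
noncomputable def π : cx M ⟶ M where
  f := πf M
  comm' i k h := by
    obtain rfl : i + 1 = k := h
    rw [cx_d]
    refine ModuleCat.hom_ext (LinearMap.ext fun (x : obj M i) => ?_)
    show M.d i (i + 1) (πf M i x) = πf M (i + 1) (d M i x)
    erw [πf_apply, πf_apply]
    erw [d_apply]
    simp only [map_zero, zero_add, map_add, Finsupp.lmapDomain_apply,
      Finsupp.linearCombination_mapDomain, Finsupp.apply_linearCombination]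
    obtain ⟨x, y, z⟩ := x
    have h1 : Finsupp.linearCombination A ((M.d i (i + 1)) ∘ fun z : S M i => M.iCycles i z.1) x = 0 := by
      rw [show ((M.d i (i + 1)) ∘ fun z : S M i => M.iCycles i z.1) = fun _ => 0 from
        funext fun z => d_iCycles_apply M i (i + 1) z.1]
      simp [Finsupp.linearCombination_apply]
    have h2 : Finsupp.linearCombination A ((M.d i (i + 1)) ∘ fun t : T' M i => M.d t.1.1 i t.1.2.1) z = 0 := by
      rw [show ((M.d i (i + 1)) ∘ fun t : T' M i => M.d t.1.1 i t.1.2.1) = fun _ => 0 from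
        funext fun t => by
          show M.d i (i + 1) (M.d t.1.1 i t.1.2.1) = 0
          rw [← ConcreteCategory.comp_apply, M.d_comp_d]
          rfl]
      simp [Finsupp.linearCombination_apply]
    rw [h1, h2, zero_add, add_zero]
    rfl

theorem π_f (j : ℤ) : (π M).f j = πf M j := rfl

theorem π_surjective (j : ℤ) : Function.Surjective (πf M j) := by
  intro (m : M.X j)
  by_cases hm : M.d j (j + 1) m = 0
  · obtain ⟨z, rfl⟩ := exists_cycle M j (j + 1) rfl m hm
    by_cases hz : z = 0
    · exact ⟨0, by simp [hz]⟩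
    · refine ⟨((Finsupp.single ⟨z, hz⟩ 1, 0) : obj M j), ?_⟩
      erw [πf_apply]
      simp
  · refine ⟨((0, Finsupp.single ⟨m, hm⟩ 1, 0) : obj M j), ?_⟩
    erw [πf_apply]
    simp

theorem isZero_X (b : ℤ) (hb : DRing.VanishesAbove M b) (j : ℤ) (hj : b < j) : IsZero ((cx M).X j) := by
  have hM : ∀ k, b < k → ∀ x : M.X k, x = 0 := fun k hk x =>
    @Subsingleton.elim _ (ModuleCat.subsingleton_of_isZero (hb k hk)) _ _
  haveI : IsEmpty (S M j) := ⟨fun z => z.2 (iCycles_injective M j (by rw [map_zero]; exact hM j hj _))⟩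
  haveI : IsEmpty (T M j) := ⟨fun t => t.2 (by rw [hM j hj t.1, map_zero])⟩
  haveI : IsEmpty (T' M j) := ⟨fun t => t.1.2.2 (by
    have := t.2
    exact hM (t.1.1 + 1) (by omega) _)⟩
  show IsZero (obj M j)
  exact ModuleCat.isZero_of_subsingleton _

/-- The cycles part, with zero differential. -/
noncomputable def zero : DRing.Cx A :=
  CochainComplex.of (fun j => ModuleCat.of A (S M j →₀ A)) (fun _ => 0) (fun _ => comp_zero)

theorem zero_d (j : ℤ) : (zero M).d j (j + 1) = 0 :=
  CochainComplex.of_d (fun j => ModuleCat.of A (S M j →₀ A)) (fun _ => 0) j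

/-- The inclusion of the cycles part. -/
noncomputable def incl : zero M ⟶ cx M where
  f j := ModuleCat.ofHom (LinearMap.inl A (S M j →₀ A) _)
  comm' i k h := by
    obtain rfl : i + 1 = k := h
    rw [cx_d, zero_d, zero_comp]
    refine ModuleCat.hom_ext (LinearMap.ext fun (x : S M i →₀ A) => ?_)
    show d M i ((x, 0) : obj M i) = 0
    rw [d_apply]
    simp

theorem incl_bijective (j : ℤ) : Function.Bijective (HomologicalComplex.homologyMap (incl M) j).hom := by
  constructor
  · rw [injective_iff_map_eq_zero]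
    intro c hc
    obtain ⟨z, rfl⟩ := homologyπ_surjective _ j c
    obtain ⟨i, rfl⟩ : ∃ i, j = i + 1 := ⟨j - 1, by omega⟩
    erw [homologyπ_naturality_apply] at hc
    obtain ⟨w, hw⟩ := (homologyπ_eq_zero_iff (cx M) i (i + 1) rfl _).1 hc
    rw [iCycles_cyclesMap_apply, cx_d] at hw
    have h0 : (zero M).iCycles (i + 1) z = 0 := congrArg Prod.fst hw
    rw [iCycles_injective (zero M) (i + 1) (h0.trans (map_zero _).symm), map_zero]
  · intro c
    obtain ⟨z, rfl⟩ := homologyπ_surjective _ j c
    obtain ⟨i, rfl⟩ : ∃ i, j = i + 1 := ⟨j - 1, by omega⟩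
    have hz : d M (i + 1) ((cx M).iCycles (i + 1) z) = 0 := by
      rw [← cx_d]
      exact d_iCycles_apply _ _ _ _
    generalize hx : (cx M).iCycles (i + 1) z = x at hz
    obtain ⟨x₁, x₂, x₃⟩ : obj M (i + 1) := x
    have hx₂ : x₂ = 0 :=
      Finsupp.mapDomain_injective (succT_bijective M (i + 1)).1
        ((congrArg (fun p => p.2.2) hz).trans Finsupp.mapDomain_zero.symm)
    obtain ⟨y, hy⟩ : ∃ y, Finsupp.lmapDomain A A (succT (M := M) i) y = x₃ := by
      exact (Finsupp.mapDomain_surjective (succT_bijective M i).2) x₃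
    obtain ⟨z', hz'⟩ := exists_cycle (zero M) (i + 1) (i + 1 + 1) rfl x₁ (by rw [zero_d]; rfl)
    refine ⟨(zero M).homologyπ (i + 1) z', ?_⟩
    erw [homologyπ_naturality_apply]
    refine (sub_eq_zero.1 ?_).symm
    rw [← map_sub]
    refine (homologyπ_eq_zero_iff (cx M) i (i + 1) rfl _).2 ⟨((0, y, 0) : obj M i), ?_⟩
    rw [map_sub, hx, iCycles_cyclesMap_apply, hz', cx_d, hx₂]
    show ((x₁, 0, x₃) : obj M (i + 1)) - ((x₁, 0, 0) : obj M (i + 1)) =
      ((0, 0, Finsupp.lmapDomain A A (succT (M := M) i) y) : obj M (i + 1))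
    rw [hy]
    simp

instance quasiIso_incl : QuasiIso (incl M) :=
  ⟨fun j => (quasiIsoAt_iff_isIso_homologyMap _ j).2 ((ConcreteCategory.isIso_iff_bijective _).2 (incl_bijective M j))⟩

theorem homology_π_surjective (j : ℤ) : Function.Surjective (HomologicalComplex.homologyMap (π M) j) := by
  intro c
  obtain ⟨z, rfl⟩ := homologyπ_surjective M j c
  by_cases hz : z = 0
  · exact ⟨0, by simp [hz]⟩
  obtain ⟨z', hz'⟩ := exists_cycle (zero M) j (j + 1) rfl (Finsupp.single (⟨z, hz⟩ : S M j) 1) (by rw [zero_d]; rfl)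
  refine ⟨(cx M).homologyπ j (HomologicalComplex.cyclesMap (incl M) j z'), ?_⟩
  erw [homologyπ_naturality_apply]
  congr 1
  refine iCycles_injective M j ?_
  rw [iCycles_cyclesMap_apply, iCycles_cyclesMap_apply, hz']
  show πf M j ((Finsupp.single (⟨z, hz⟩ : S M j) 1, 0) : obj M j) = _
  erw [πf_apply]
  simp

theorem flat_zero (j : ℤ) : Module.Flat A ((zero M).X j) :=
  inferInstanceAs (Module.Flat A (S M j →₀ A))

theorem projective_homology (j : ℤ) : Module.Projective A ((cx M).homology j) := by
  haveI : Module.Projective A ((zero M).X j) := inferInstanceAs (Module.Projective A (S M j →₀ A))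
  exact Module.Projective.of_equiv ((LinearEquiv.ofBijective _ (iCycles_bijective (zero_d M) j)).symm ≪≫ₗ
    (LinearEquiv.ofBijective ((zero M).homologyπ j).hom ⟨by
      rw [injective_iff_map_eq_zero]
      intro z hz
      obtain ⟨i, rfl⟩ : ∃ i, j = i + 1 := ⟨j - 1, by omega⟩
      obtain ⟨w, hw⟩ := (homologyπ_eq_zero_iff _ i (i + 1) rfl z).1 hz
      exact iCycles_injective _ _ (by rw [hw, zero_d, map_zero]; rfl), homologyπ_surjective _ j⟩) ≪≫ₗ
    (LinearEquiv.ofBijective _ (incl_bijective M j)))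

end Cover

end Groth.Agent.H26Tor.Kunneth
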