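import Groth.Agent.H26Tor.Kunneth.Step
import Mathlib.CategoryTheory.Abelian.LeftDerived

/-! The filtration of the cohomology of a tensor product by the Künneth spectral sequence. -/

set_option autoImplicit false

universe u

open CategoryTheory CategoryTheory.Limits MonoidalCategory TensorProduct
open Groth.Agent.H16Derived Groth.Agent.H4DR

namespace Groth.Agent.H26Tor.Kunneth

variable {A : Type u} [CommRing A]

section LinAlg

theorem isSubquotient_of {N T S' H Cy : Type u} [AddCommGroup N] [Module A N] [AddCommGroup T] [Module A T]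
    [AddCommGroup S'] [Module A S'] [AddCommGroup H] [Module A H] [AddCommGroup Cy] [Module A Cy]
    (π : S' →ₗ[A] H) (ι : Cy →ₗ[A] S') (q : Cy →ₗ[A] T) (G : Submodule A H) (e : N ≃ₗ[A] G)
    (h1 : G ≤ LinearMap.range π) (h2 : ∀ x, π x ∈ G → x ∈ LinearMap.range ι)
    (h3 : LinearMap.ker q ≤ LinearMap.ker (π ∘ₗ ι)) : HTor.IsSubquotient A N T := by
  set P := Submodule.comap (π ∘ₗ ι) G
  set K := LinearMap.ker (π ∘ₗ ι)
  have hKP : K ≤ P := fun x hx => by
    show (π ∘ₗ ι) x ∈ G
    rw [LinearMap.mem_ker.1 hx]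
    exact G.zero_mem
  refine ⟨Submodule.map q K, Submodule.map q P, Submodule.map_mono hKP, ⟨?_⟩⟩
  let φ : P →ₗ[A] G := ((π ∘ₗ ι) ∘ₗ P.subtype).codRestrict G fun x => x.2
  let ψ : P →ₗ[A] ↥(Submodule.map q P) ⧸ Submodule.comap (Submodule.map q P).subtype (Submodule.map q K) :=
    (Submodule.comap (Submodule.map q P).subtype (Submodule.map q K)).mkQ ∘ₗ
      (q ∘ₗ P.subtype).codRestrict (Submodule.map q P) fun x => ⟨x.1, x.2, rfl⟩
  have hφ : Function.Surjective φ := by
    rintro ⟨y, hy⟩
    obtain ⟨x, rfl⟩ := h1 hy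
    obtain ⟨c, rfl⟩ := h2 x hy
    exact ⟨⟨c, hy⟩, rfl⟩
  have hψ : Function.Surjective ψ := by
    refine (Submodule.mkQ_surjective _).comp ?_
    rintro ⟨-, x, hx, rfl⟩
    exact ⟨⟨x, hx⟩, rfl⟩
  have hker : LinearMap.ker φ = LinearMap.ker ψ := by
    ext ⟨x, hx⟩
    simp only [LinearMap.mem_ker, φ, ψ, LinearMap.comp_apply, Submodule.mkQ_apply, Submodule.Quotient.mk_eq_zero,
      Submodule.mem_comap]
    constructor
    · intro h
      exact ⟨x, congrArg Subtype.val h, rfl⟩
    · rintro ⟨y, hy, hyx⟩
      apply Subtype.ext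
      change (π ∘ₗ ι) x = 0
      have hy' : (π ∘ₗ ι) (x - y) = 0 := by
        refine h3 ?_
        rw [LinearMap.mem_ker, map_sub]
        exact sub_eq_zero.2 hyx.symm
      rw [map_sub, LinearMap.mem_ker.1 hy, sub_zero] at hy'
      exact hy'
  exact e ≪≫ₗ (φ.quotKerEquivOfSurjective hφ).symm ≪≫ₗ Submodule.quotEquivOfEq _ _ hker ≪≫ₗ
    ψ.quotKerEquivOfSurjective hψ

theorem subsingleton_of_isSubquotient {N T : Type u} [AddCommGroup N] [Module A N] [AddCommGroup T] [Module A T]
    [Subsingleton T] (h : HTor.IsSubquotient A N T) : Subsingleton N := by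
  obtain ⟨S, S', -, ⟨e⟩⟩ := h
  exact e.toEquiv.subsingleton

end LinAlg

variable (L M : DRing.Cx A)

/-- The iterated kernels of the covers. -/
noncomputable def it : ℕ → DRing.Cx A
  | 0 => M
  | p + 1 => next (it p)

theorem isZero_it (b : ℤ) (hb : DRing.VanishesAbove M b) : ∀ p, DRing.VanishesAbove (it M p) b
  | 0 => hb
  | p + 1 => isZero_next _ b (isZero_it b hb p)

/-- The composite `P_{p+1} ⟶ K_{p+1} ⟶ P_p`. -/
noncomputable abbrev step (p : ℕ) : Cover.cx (it M (p + 1)) ⟶ Cover.cx (it M p) :=
  Cover.π (it M (p + 1)) ≫ nextι (it M p)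

theorem step_comp_π (p : ℕ) : step M p ≫ Cover.π (it M p) = 0 :=
  ((Category.assoc _ _ _).trans (congrArg (Cover.π (it M (p + 1)) ≫ ·) (kernel.condition (Cover.π (it M p))))).trans
    comp_zero

theorem step_comp_step (p : ℕ) : step M (p + 1) ≫ step M p = 0 :=
  ((Category.assoc _ _ _).symm.trans (congrArg (· ≫ nextι (it M p)) (step_comp_π M (p + 1)))).trans zero_comp

/-- The free resolution of `H^j M`. -/
noncomputable def res (j : ℤ) : ChainComplex (ModuleCat.{u} A) ℕ :=
  ChainComplex.of (fun p => (Cover.cx (it M p)).homology j)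
    (fun p => HomologicalComplex.homologyMap (step M p) j) (fun p => by
      rw [← HomologicalComplex.homologyMap_comp, step_comp_step, HomologicalComplex.homologyMap_zero])

theorem res_d (j : ℤ) (p : ℕ) : (res M j).d (p + 1) p = HomologicalComplex.homologyMap (step M p) j :=
  ChainComplex.of_d (fun p => (Cover.cx (it M p)).homology j) (fun p => HomologicalComplex.homologyMap (step M p) j) p

theorem step_eq_zero_iff (j : ℤ) (p : ℕ) (x : (Cover.cx (it M (p + 1))).homology j) :
    HomologicalComplex.homologyMap (step M p) j x = 0 ↔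
      HomologicalComplex.homologyMap (Cover.π (it M (p + 1))) j x = 0 := by
  rw [HomologicalComplex.homologyMap_comp, ConcreteCategory.comp_apply]
  exact map_eq_zero_iff _ (homology_ι_injective (it M p) j)

/-- The resolution of `H^j M`. -/
noncomputable def resolutionH (j : ℤ) : ProjectiveResolution (M.homology j) where
  complex := res M j
  projective p := by
    haveI := Cover.projective_homology (it M p) j
    exact (IsProjective.iff_projective (R := A) ((Cover.cx (it M p)).homology j)).1 inferInstance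
  π := (ChainComplex.toSingle₀Equiv _ _).symm ⟨HomologicalComplex.homologyMap (Cover.π M) j, by
    show (res M j).d 1 0 ≫ _ = 0
    rw [res_d]
    erw [← HomologicalComplex.homologyMap_comp]
    exact (congrArg (HomologicalComplex.homologyMap · j) (step_comp_π M 0)).trans
      (HomologicalComplex.homologyMap_zero _ _ _)⟩
  quasiIso := ⟨fun p => by
    cases p with
    | zero =>
      rw [ChainComplex.quasiIsoAt₀_iff, ShortComplex.quasiIso_iff_of_zeros']
      · let S := ShortComplex.mk ((res M j).d 1 0) (HomologicalComplex.homologyMap (Cover.π M) j) (by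
          rw [res_d]
          erw [← HomologicalComplex.homologyMap_comp]
          exact (congrArg (HomologicalComplex.homologyMap · j) (step_comp_π M 0)).trans
            (HomologicalComplex.homologyMap_zero _ _ _))
        have hS : S.Exact := by
          rw [ShortComplex.moduleCat_exact_iff]
          intro x hx
          obtain ⟨y, hy⟩ := (homology_exact M j x).1 hx
          obtain ⟨z, rfl⟩ := Cover.homology_π_surjective (it M 1) j y
          refine ⟨z, ?_⟩
          show (res M j).d 1 0 z = x
          rw [res_d, ← hy]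
          erw [HomologicalComplex.homologyMap_comp]
          rfl
        refine (ShortComplex.exact_and_epi_g_iff_of_iso ?_).2
          ⟨hS, (ModuleCat.epi_iff_surjective _).2 (Cover.homology_π_surjective M j)⟩
        exact ShortComplex.isoMk (Iso.refl _) (Iso.refl _) (Iso.refl _)
          ((Category.id_comp _).trans (Category.comp_id _).symm)
          (by
            refine (Category.id_comp _).trans ?_
            refine Eq.trans ?_ (Category.comp_id _).symm
            exact (ChainComplex.toSingle₀Equiv_symm_apply_f_zero (C := res M j) _ _).symm)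
      all_goals rfl
    | succ p =>
      rw [quasiIsoAt_iff_exactAt']
      · rw [HomologicalComplex.exactAt_iff' _ (p + 1 + 1) (p + 1) p (by simp) (by simp),
          ShortComplex.moduleCat_exact_iff]
        intro (x : (Cover.cx (it M (p + 1))).homology j) hx
        change (res M j).d (p + 1) p x = 0 at hx
        rw [res_d] at hx
        replace hx := (step_eq_zero_iff M j p x).1 hx
        obtain ⟨y, hy⟩ := (homology_exact (it M (p + 1)) j x).1 hx
        obtain ⟨z, rfl⟩ := Cover.homology_π_surjective (it M (p + 2)) j y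
        refine ⟨z, ?_⟩
        show (res M j).d (p + 1 + 1) (p + 1) z = x
        rw [res_d, ← hy]
        erw [HomologicalComplex.homologyMap_comp]
        rfl
      · apply ChainComplex.exactAt_succ_single_obj⟩

variable (hL : DRing.TermwiseFlat L) (n : ℤ)

/-- The degrees of the filtration. -/
def deg : ℕ → ℤ
  | 0 => n
  | p + 1 => deg p + 1

theorem deg_eq : ∀ p : ℕ, deg n p = n + p
  | 0 => by simp [deg]
  | p + 1 => by rw [deg, deg_eq p]; push_cast; ring

/-- The connecting map of the `p`th step. -/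
noncomputable def δ (p : ℕ) :
    ((HTor.tensorCx L (it M p)).homology (deg n p) : Type u) →ₗ[A]
      ((HTor.tensorCx L (it M (p + 1))).homology (deg n (p + 1)) : Type u) :=
  ((tses_shortExact L hL (it M p)).δ (deg n p) (deg n (p + 1)) rfl).hom

/-- The iterated connecting maps. -/
noncomputable def Δ : ∀ p : ℕ, ((HTor.tensorCx L M).homology n : Type u) →ₗ[A]
    ((HTor.tensorCx L (it M p)).homology (deg n p) : Type u)
  | 0 => LinearMap.id
  | p + 1 => δ L M hL n p ∘ₗ Δ p

/-- The filtration. -/
noncomputable def F (p : ℕ) : Submodule A ((HTor.tensorCx L M).homology n : Type u) :=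
  LinearMap.ker (Δ L M hL n (p + 1))

theorem F_monotone : Monotone (F L M hL n) :=
  monotone_nat_of_le_succ fun p x hx => by
    show δ L M hL n (p + 1) (Δ L M hL n (p + 1) x) = 0
    rw [LinearMap.mem_ker.1 hx, map_zero]

include hL in
theorem F_zero (a : ℤ) (ha : DRing.VanishesAbove L a) : F L M hL n 0 = LinearMap.range (kmap L M n) := by
  ext x
  exact ker_δ_eq_range hL a ha M n (n + 1) rfl x

theorem F_eq_top (a b : ℤ) (ha : DRing.VanishesAbove L a) (hb : DRing.VanishesAbove M b) :
    F L M hL n (a + b - n).toNat = ⊤ := by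
  set N := (a + b - n).toNat
  have : Subsingleton ((HTor.tensorCx L (it M (N + 1))).homology (deg n (N + 1))) := by
    refine ModuleCat.subsingleton_of_isZero ?_
    refine ShortComplex.isZero_homology_of_isZero_X₂ _ ?_
    exact isZero_tot_X (KFlatMod.bi A) L (it M (N + 1)) a b (deg n (N + 1)) ha (isZero_it M b hb _)
      (by rw [deg_eq]; push_cast; omega)
  exact top_unique fun x _ => Subsingleton.elim _ _

/-- The `E₂` complex. -/
noncomputable abbrev torCx (i j : ℤ) : ChainComplex (ModuleCat.{u} A) ℕ :=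
  (((tensoringLeft (ModuleCat.{u} A)).obj (L.homology i)).mapHomologicalComplex _).obj (res M j)

theorem torCx_exists_cycle (i j : ℤ) (p : ℕ) (x : (L.homology i : Type u) ⊗[A] ((Cover.cx (it M (p + 1))).homology j : Type u))
    (hx : LinearMap.lTensor (L.homology i : Type u) (HomologicalComplex.homologyMap (step M p) j).hom x = 0) :
    ∃ z : (torCx L M i j).cycles (p + 1), (torCx L M i j).iCycles (p + 1) z = x := by
  refine (ShortComplex.moduleCat_exact_iff _).1
    (ShortComplex.exact_of_f_is_kernel (ShortComplex.mk _ _ ((torCx L M i j).iCycles_d (p + 1) p))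
      ((torCx L M i j).cyclesIsKernel (p + 1) p ((ComplexShape.down ℕ).next_eq' rfl))) x ?_
  show (L.homology i ◁ (res M j).d (p + 1) p) x = 0
  rw [res_d]
  exact hx

theorem torCx_homologyπ_eq_zero (i j : ℤ) (p : ℕ) (z : (torCx L M i j).cycles (p + 1))
    (hz : (torCx L M i j).homologyπ (p + 1) z = 0) :
    ∃ w : (L.homology i : Type u) ⊗[A] ((Cover.cx (it M (p + 2))).homology j : Type u),
      (torCx L M i j).iCycles (p + 1) z =
        LinearMap.lTensor (L.homology i : Type u) (HomologicalComplex.homologyMap (step M (p + 1)) j).hom w := by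
  obtain ⟨w, rfl⟩ := (ShortComplex.moduleCat_exact_iff _).1
    (ShortComplex.exact_of_g_is_cokernel (ShortComplex.mk _ _ ((torCx L M i j).toCycles_comp_homologyπ (p + 2) (p + 1)))
      ((torCx L M i j).homologyIsCokernel (p + 2) (p + 1) ((ComplexShape.down ℕ).prev_eq' rfl))) z hz
  refine ⟨w, ?_⟩
  change ((torCx L M i j).toCycles (p + 2) (p + 1) ≫ (torCx L M i j).iCycles (p + 1)).hom w = _
  rw [HomologicalComplex.toCycles_i]
  show (L.homology i ◁ (res M j).d (p + 1 + 1) (p + 1)) w = _
  rw [res_d]
  rfl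

/-- Reindexing of the `Tor` sum. -/
def reindex (p : ℕ) : HTor.Antidiag (deg n (p + 1)) ≃ {ij : ℤ × ℤ // ij.1 + ij.2 - ((p + 1 : ℕ) : ℤ) = n} :=
  Equiv.subtypeEquivRight fun ij => by rw [deg_eq]; omega

include hL in
theorem isSubquotient_gr (a : ℤ) (ha : DRing.VanishesAbove L a) (p : ℕ) :
    HTor.IsSubquotient A (HTor.grSucc (F L M hL n) p) (HTor.TorSum L M n (p + 1)) := by
  classical
  let m := deg n (p + 1)
  let G : Submodule A ((HTor.tensorCx L (it M (p + 1))).homology m : Type u) :=
    LinearMap.range (Δ L M hL n (p + 1)) ⊓ LinearMap.ker (δ L M hL n (p + 1))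
  let e : HTor.grSucc (F L M hL n) p ≃ₗ[A] G := by
    let φ : F L M hL n (p + 1) →ₗ[A] G :=
      ((Δ L M hL n (p + 1)) ∘ₗ (F L M hL n (p + 1)).subtype).codRestrict G fun x =>
        ⟨⟨x.1, rfl⟩, x.2⟩
    refine Submodule.quotEquivOfEq _ _ ?_ ≪≫ₗ φ.quotKerEquivOfSurjective ?_
    · ext x
      exact ⟨fun h => Subtype.ext h, fun h => congrArg Subtype.val h⟩
    · rintro ⟨-, ⟨x, rfl⟩, hx⟩
      exact ⟨⟨x, hx⟩, rfl⟩
  let P := fun (c : HTor.Antidiag m) => resolutionH M c.1.2
  let Cy := DirectSum (HTor.Antidiag m) fun c => ((torCx L M c.1.1 c.1.2).cycles (p + 1) : Type u)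
  let ι : Cy →ₗ[A] HTor.KunnethSum L (Cover.cx (it M (p + 1))) m :=
    DirectSum.lmap fun c => ((torCx L M c.1.1 c.1.2).iCycles (p + 1)).hom
  let π := kmap L (it M (p + 1)) m ∘ₗ sumMap L (Cover.π (it M (p + 1))) m
  let qc : ∀ c : HTor.Antidiag m, ((torCx L M c.1.1 c.1.2).cycles (p + 1) : Type u) →ₗ[A]
      DRing.Tor A (p + 1) (L.homology c.1.1) (M.homology c.1.2) := fun c =>
    ((torCx L M c.1.1 c.1.2).homologyπ (p + 1) ≫
      ((P c).isoLeftDerivedObj ((tensoringLeft (ModuleCat.{u} A)).obj (L.homology c.1.1)) (p + 1)).inv).hom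
  let q : Cy →ₗ[A] HTor.TorSum L M n (p + 1) :=
    (DirectSum.lequivCongrLeft A (reindex n p)).toLinearMap ∘ₗ DirectSum.lmap qc
  refine isSubquotient_of π ι q G e ?_ ?_ ?_
  · intro y hy
    obtain ⟨x, rfl⟩ := (ker_δ_eq_range hL a ha (it M (p + 1)) m (deg n (p + 2)) rfl y).1 hy.2
    obtain ⟨u, rfl⟩ := sumMap_surjective L (Cover.π (it M (p + 1))) m (Cover.homology_π_surjective _) x
    exact ⟨u, rfl⟩
  · intro x hx
    have h0 : sumMap L (step M p) m x = 0 := by
      refine (kmap_cx_bijective hL a ha (it M p) m).1 ?_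
      rw [map_zero, ← sumMap_comp_apply]
      erw [← kmap_naturality]
      obtain ⟨y, hy⟩ := hx.1
      show HomologicalComplex.homologyMap (tmap L (nextι (it M p))) m (π x) = 0
      rw [← hy]
      exact LinearMap.congr_fun (congrArg ModuleCat.Hom.hom
        ((tses_shortExact L hL (it M p)).δ_comp (deg n p) m rfl)) (Δ L M hL n p y)
    have hc : ∀ c, x c ∈ LinearMap.range ((torCx L M c.1.1 c.1.2).iCycles (p + 1)).hom := fun c => by
      refine torCx_exists_cycle L M c.1.1 c.1.2 p (x c) ?_
      have := congrArg (fun z => z c) h0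
      simpa [sumMap] using this
    rw [← DirectSum.sum_support_of x]
    refine Submodule.sum_mem _ fun c _ => ?_
    obtain ⟨z, hz⟩ := hc c
    refine ⟨DirectSum.lof A _ _ c z, ?_⟩
    rw [← DirectSum.lof_eq_of A, ← hz]
    show DirectSum.lmap (fun c : HTor.Antidiag m => ((torCx L M c.1.1 c.1.2).iCycles (p + 1)).hom) _ = _
    erw [DirectSum.lmap_lof]
    rfl
  · intro z hz
    have hz' : ∀ c, qc c (z c) = 0 := fun c => by
      have h0 : DirectSum.lequivCongrLeft A (reindex n p) (DirectSum.lmap qc z) = 0 := hz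
      have h1 : DirectSum.lmap qc z = 0 := (LinearEquiv.map_eq_zero_iff _).1 h0
      rw [← DirectSum.lmap_apply, h1]
      rfl
    rw [LinearMap.mem_ker, ← DirectSum.sum_support_of z, map_sum]
    refine Finset.sum_eq_zero fun c _ => ?_
    have h2 : (torCx L M c.1.1 c.1.2).homologyπ (p + 1) (z c) = 0 := by
      have h3 := hz' c
      exact (map_eq_zero_iff _ (ConcreteCategory.bijective_of_isIso
        ((P c).isoLeftDerivedObj ((tensoringLeft (ModuleCat.{u} A)).obj (L.homology c.1.1)) (p + 1)).inv).1).1 h3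
    obtain ⟨w, hw⟩ := torCx_homologyπ_eq_zero L M c.1.1 c.1.2 p (z c) h2
    show π (ι _) = 0
    rw [← DirectSum.lof_eq_of A]
    show π (ι (DirectSum.lof A _ _ c (z c))) = 0
    have h4 : ι (DirectSum.lof A _ _ c (z c)) = sumMap L (step M (p + 1)) m (DirectSum.lof A _ _ c w) := by
      simp only [ι, sumMap]
      erw [DirectSum.lmap_lof, DirectSum.lmap_lof]
      exact congrArg (DirectSum.lof A _ _ c) hw
    rw [h4]
    show kmap L _ m (sumMap L _ m (sumMap L _ m _)) = 0
    rw [sumMap_comp_apply]
    erw [step_comp_π]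
    rw [sumMap_zero_apply, map_zero]

end Groth.Agent.H26Tor.Kunneth
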