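import Groth.Prelude.Def_HTor
import Mathlib.Algebra.Homology.ShortComplex.ModuleCat

/-! The Künneth map of two complexes of modules. -/

set_option autoImplicit false

universe u

open CategoryTheory CategoryTheory.Limits MonoidalCategory TensorProduct

namespace Groth.Agent.H26Tor.Kunneth

variable {A : Type u} [CommRing A]

section Cycles

variable (K : DRing.Cx A)

theorem iCycles_injective (j : ℤ) : Function.Injective (K.iCycles j) :=
  (ModuleCat.mono_iff_injective _).1 inferInstance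

theorem homologyπ_surjective (j : ℤ) : Function.Surjective (K.homologyπ j) :=
  (ModuleCat.epi_iff_surjective _).1 inferInstance

theorem d_iCycles_apply (j k : ℤ) (z : K.cycles j) : K.d j k (K.iCycles j z) = 0 := by
  rw [← ConcreteCategory.comp_apply, K.iCycles_d]
  rfl

theorem exists_cycle (j k : ℤ) (h : j + 1 = k) (x : K.X j) (hx : K.d j k x = 0) :
    ∃ z : K.cycles j, K.iCycles j z = x :=
  (ShortComplex.moduleCat_exact_iff _).1
    (ShortComplex.exact_of_f_is_kernel (ShortComplex.mk _ _ (K.iCycles_d j k))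
      (K.cyclesIsKernel j k ((ComplexShape.up ℤ).next_eq' h))) x hx

theorem homologyπ_eq_zero_iff (i j : ℤ) (h : i + 1 = j) (z : K.cycles j) :
    K.homologyπ j z = 0 ↔ ∃ w : K.X i, K.iCycles j z = K.d i j w := by
  constructor
  · intro hz
    obtain ⟨w, hw⟩ := (ShortComplex.moduleCat_exact_iff _).1
      (ShortComplex.exact_of_g_is_cokernel (ShortComplex.mk _ _ (K.toCycles_comp_homologyπ i j))
        (K.homologyIsCokernel i j ((ComplexShape.up ℤ).prev_eq' h))) z hz
    refine ⟨w, ?_⟩
    rw [← show K.toCycles i j w = z from hw, ← ConcreteCategory.comp_apply, K.toCycles_i]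
  · rintro ⟨w, hw⟩
    obtain rfl : K.toCycles i j w = z :=
      iCycles_injective K j (by rw [hw, ← ConcreteCategory.comp_apply, K.toCycles_i])
    rw [← ConcreteCategory.comp_apply, K.toCycles_comp_homologyπ]
    rfl

theorem iCycles_cyclesMap_apply {K' : DRing.Cx A} (f : K ⟶ K') (j : ℤ) (z : K.cycles j) :
    K'.iCycles j (HomologicalComplex.cyclesMap f j z) = f.f j (K.iCycles j z) := by
  rw [← ConcreteCategory.comp_apply, HomologicalComplex.cyclesMap_i]
  rfl

theorem homologyπ_naturality_apply {K' : DRing.Cx A} (f : K ⟶ K') (j : ℤ) (z : K.cycles j) :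
    HomologicalComplex.homologyMap f j (K.homologyπ j z) = K'.homologyπ j (HomologicalComplex.cyclesMap f j z) := by
  rw [← ConcreteCategory.comp_apply, HomologicalComplex.homologyπ_naturality]
  rfl

end Cycles

variable (K L : DRing.Cx A)

/-- The inclusion of a summand, as a linear map. -/
noncomputable def ι (i j n : ℤ) (h : i + j = n) :
    (K.X i : Type u) ⊗[A] (L.X j : Type u) →ₗ[A] ((HTor.tensorCx K L).X n : Type u) :=
  (HomologicalComplex.ιTensorObj K L i j n h).hom

theorem ι_comp_d (i j n i' j' n' : ℤ) (hi : i + 1 = i') (hj : j + 1 = j') (h : i + j = n) (hn : n + 1 = n') :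
    HomologicalComplex.ιTensorObj K L i j n h ≫ (HTor.tensorCx K L).d n n' =
      K.d i i' ▷ L.X j ≫ HomologicalComplex.ιTensorObj K L i' j n' (by omega) +
        i.negOnePow • (K.X i ◁ L.d j j' ≫ HomologicalComplex.ιTensorObj K L i j' n' (by omega)) := by
  change _ ≫ (HomologicalComplex.mapBifunctor K L (curriedTensor (ModuleCat.{u} A)) (ComplexShape.up ℤ)).d n n' = _
  rw [HomologicalComplex.mapBifunctor.d_eq]
  erw [Preadditive.comp_add]
  rw [HomologicalComplex.mapBifunctor.ι_D₁, HomologicalComplex.mapBifunctor.ι_D₂,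
    HomologicalComplex.mapBifunctor.d₁_eq K L _ _ (show (ComplexShape.up ℤ).Rel i i' from hi) j n'
      (show i' + j = n' by omega),
    HomologicalComplex.mapBifunctor.d₂_eq K L _ _ i (show (ComplexShape.up ℤ).Rel j j' from hj) n'
      (show i + j' = n' by omega)]
  have h1 : ComplexShape.ε₁ (ComplexShape.up ℤ) (ComplexShape.up ℤ) (ComplexShape.up ℤ) (i, j) = 1 := rfl
  rw [h1, one_smul]
  rfl

theorem d_ι_tmul (i j n i' j' n' : ℤ) (hi : i + 1 = i') (hj : j + 1 = j') (h : i + j = n) (hn : n + 1 = n')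
    (x : K.X i) (y : L.X j) :
    (HTor.tensorCx K L).d n n' (ι K L i j n h (x ⊗ₜ y)) =
      ι K L i' j n' (by omega) (K.d i i' x ⊗ₜ y) +
        i.negOnePow • ι K L i j' n' (by omega) (x ⊗ₜ L.d j j' y) :=
  congrArg (fun f => f.hom (x ⊗ₜ y)) (ι_comp_d K L i j n i' j' n' hi hj h hn)

/-- `z ⊗ z'` in the summand. -/
noncomputable def pair (i j n : ℤ) (h : i + j = n) :
    (K.cycles i : Type u) ⊗[A] (L.cycles j : Type u) →ₗ[A] ((HTor.tensorCx K L).X n : Type u) :=
  ι K L i j n h ∘ₗ TensorProduct.map (K.iCycles i).hom (L.iCycles j).hom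

theorem d_pair (i j n n' : ℤ) (h : i + j = n) (hn : n + 1 = n') (x : (K.cycles i : Type u) ⊗[A] (L.cycles j : Type u)) :
    (HTor.tensorCx K L).d n n' (pair K L i j n h x) = 0 := by
  induction x using TensorProduct.induction_on with
  | zero => simp
  | add a b ha hb => simp [ha, hb]
  | tmul z z' =>
    show (HTor.tensorCx K L).d n n' (ι K L i j n h (K.iCycles i z ⊗ₜ L.iCycles j z')) = 0
    rw [d_ι_tmul K L i j n (i + 1) (j + 1) n' rfl rfl h hn, d_iCycles_apply, d_iCycles_apply]
    simp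

/-- `z ⊗ z'` as a cycle. -/
noncomputable def pairCycle (i j n : ℤ) (h : i + j = n) :
    (K.cycles i : Type u) ⊗[A] (L.cycles j : Type u) →ₗ[A] ((HTor.tensorCx K L).cycles n : Type u) :=
  ((HTor.tensorCx K L).liftCycles
    (A := ModuleCat.of A ((K.cycles i : Type u) ⊗[A] (L.cycles j : Type u)))
    (ModuleCat.ofHom (pair K L i j n h)) (n + 1) ((ComplexShape.up ℤ).next_eq' rfl)
    (ModuleCat.hom_ext (LinearMap.ext fun x => d_pair K L i j n (n + 1) h rfl x))).hom

theorem iCycles_pairCycle (i j n : ℤ) (h : i + j = n) (x) :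
    (HTor.tensorCx K L).iCycles n (pairCycle K L i j n h x) = pair K L i j n h x := by
  simp only [pairCycle]
  erw [← ConcreteCategory.comp_apply, HomologicalComplex.liftCycles_i]
  rfl

/-- The Künneth map exists. -/
theorem exists_isKunnethMap (n : ℤ) : ∃ Φ, HTor.IsKunnethMap K L n Φ := by
  have key : ∀ ij : HTor.Antidiag n, ∃ φ : (K.homology ij.1.1 : Type u) ⊗[A] (L.homology ij.1.2 : Type u) →ₗ[A]
      ((HTor.tensorCx K L).homology n : Type u),
      φ ∘ₗ TensorProduct.map (K.homologyπ ij.1.1).hom (L.homologyπ ij.1.2).hom =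
        ((HTor.tensorCx K L).homologyπ n).hom ∘ₗ pairCycle K L _ _ n ij.2 := by
    rintro ⟨⟨i, j⟩, h⟩
    change i + j = n at h
    dsimp only
    set p := TensorProduct.map (K.homologyπ i).hom (L.homologyπ j).hom
    set ψ := ((HTor.tensorCx K L).homologyπ n).hom ∘ₗ pairCycle K L i j n h
    have hp : Function.Surjective p :=
      TensorProduct.map_surjective (homologyπ_surjective K i) (homologyπ_surjective L j)
    have hker : LinearMap.ker p ≤ LinearMap.ker ψ := by
      rw [TensorProduct.map_ker (f := (LinearMap.ker (K.homologyπ i).hom).subtype)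
        (f' := (LinearMap.ker (L.homologyπ j).hom).subtype)
        (LinearMap.exact_subtype_ker_map _) (homologyπ_surjective K i)
        (LinearMap.exact_subtype_ker_map _) (homologyπ_surjective L j)]
      apply sup_le <;> rw [LinearMap.range_le_ker_iff] <;> apply TensorProduct.ext'
      · intro z z'
        show (HTor.tensorCx K L).homologyπ n (pairCycle K L i j n h (z ⊗ₜ z'.1)) = 0
        obtain ⟨w, hw⟩ := (homologyπ_eq_zero_iff L (j - 1) j (by omega) z'.1).1 z'.2
        refine (homologyπ_eq_zero_iff _ (n - 1) n (by omega) _).2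
          ⟨i.negOnePow • ι K L i (j - 1) (n - 1) (by omega) (K.iCycles i z ⊗ₜ w), ?_⟩
        rw [iCycles_pairCycle]
        show ι K L i j n h (K.iCycles i z ⊗ₜ L.iCycles j z'.1) = _
        rw [hw, Units.smul_def, map_zsmul, d_ι_tmul K L i (j - 1) (n - 1) (i + 1) j n rfl (by omega) (by omega) (by omega),
          d_iCycles_apply, TensorProduct.zero_tmul, map_zero, zero_add, ← Units.smul_def, smul_smul,
          Int.units_mul_self, one_smul]
      · intro z z'
        show (HTor.tensorCx K L).homologyπ n (pairCycle K L i j n h (z.1 ⊗ₜ z')) = 0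
        obtain ⟨w, hw⟩ := (homologyπ_eq_zero_iff K (i - 1) i (by omega) z.1).1 z.2
        refine (homologyπ_eq_zero_iff _ (n - 1) n (by omega) _).2
          ⟨ι K L (i - 1) j (n - 1) (by omega) (w ⊗ₜ L.iCycles j z'), ?_⟩
        rw [iCycles_pairCycle]
        show ι K L i j n h (K.iCycles i z.1 ⊗ₜ L.iCycles j z') = _
        rw [hw, d_ι_tmul K L (i - 1) j (n - 1) i (j + 1) n (by omega) rfl (by omega) (by omega),
          d_iCycles_apply, TensorProduct.tmul_zero, map_zero, smul_zero, add_zero]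
    refine ⟨(LinearMap.ker p).liftQ ψ hker ∘ₗ (p.quotKerEquivOfSurjective hp).symm.toLinearMap, ?_⟩
    refine LinearMap.ext fun x => ?_
    simp [LinearMap.quotKerEquivOfSurjective_symm_apply]
  choose φ hφ using key
  refine ⟨DirectSum.toModule A _ _ φ, fun ij z z' w hw => ?_⟩
  rw [DirectSum.toModule_lof]
  refine (LinearMap.congr_fun (hφ ij) (z ⊗ₜ z')).trans ?_
  show (HTor.tensorCx K L).homologyπ n (pairCycle K L _ _ n ij.2 (z ⊗ₜ z')) = _
  congr 1
  refine iCycles_injective _ _ ?_
  rw [iCycles_pairCycle, hw]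
  rfl

variable {K L}

theorem lof_apply {n : ℤ} {Φ} (hΦ : HTor.IsKunnethMap K L n Φ) (ij : HTor.Antidiag n)
    (x : (K.cycles ij.1.1 : Type u) ⊗[A] (L.cycles ij.1.2 : Type u)) :
    Φ (DirectSum.lof A _ _ ij (TensorProduct.map (K.homologyπ ij.1.1).hom (L.homologyπ ij.1.2).hom x)) =
      (HTor.tensorCx K L).homologyπ n (pairCycle K L _ _ n ij.2 x) := by
  induction x using TensorProduct.induction_on with
  | zero => simp
  | add a b ha hb => simp only [map_add, ha, hb]
  | tmul z z' => exact hΦ ij z z' _ (by rw [iCycles_pairCycle]; rfl)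

/-- The map induced on Künneth sums. -/
noncomputable def sumMap (L : DRing.Cx A) {M M' : DRing.Cx A} (f : M ⟶ M') (n : ℤ) :
    HTor.KunnethSum L M n →ₗ[A] HTor.KunnethSum L M' n :=
  DirectSum.lmap fun ij => LinearMap.lTensor _ (HomologicalComplex.homologyMap f ij.1.2).hom

/-- The morphism `L ⊗ f`. -/
noncomputable abbrev tmap (L : DRing.Cx A) {M M' : DRing.Cx A} (f : M ⟶ M') :
    HTor.tensorCx L M ⟶ HTor.tensorCx L M' :=
  HomologicalComplex.tensorHom (𝟙 L) f

theorem tmap_ι_tmul (L : DRing.Cx A) {M M' : DRing.Cx A} (f : M ⟶ M') (i j n : ℤ) (h : i + j = n)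
    (x : L.X i) (y : M.X j) :
    (tmap L f).f n (ι L M i j n h (x ⊗ₜ y)) = ι L M' i j n h (x ⊗ₜ f.f j y) :=
  congrArg (fun g => g.hom (x ⊗ₜ y))
    (HomologicalComplex.ι_mapBifunctorMap (𝟙 L) f (curriedTensor (ModuleCat.{u} A)) (ComplexShape.up ℤ) i j n h)

theorem naturality {L M M' : DRing.Cx A} (f : M ⟶ M') {n : ℤ} {Φ Φ'} (hΦ : HTor.IsKunnethMap L M n Φ)
    (hΦ' : HTor.IsKunnethMap L M' n Φ') :
    (HomologicalComplex.homologyMap (tmap L f) n).hom ∘ₗ Φ = Φ' ∘ₗ sumMap L f n := by
  refine DirectSum.linearMap_ext A fun ij => TensorProduct.ext' fun a b => ?_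
  obtain ⟨z, rfl⟩ := homologyπ_surjective L ij.1.1 a
  obtain ⟨z', rfl⟩ := homologyπ_surjective M ij.1.2 b
  show HomologicalComplex.homologyMap (tmap L f) n (Φ _) = Φ' (sumMap L f n _)
  rw [hΦ ij z z' (pairCycle L M _ _ n ij.2 (z ⊗ₜ z')) (by rw [iCycles_pairCycle]; rfl), sumMap,
    DirectSum.lmap_lof, LinearMap.lTensor_tmul, homologyπ_naturality_apply]
  erw [homologyπ_naturality_apply]
  refine (hΦ' ij z _ _ ?_).symm
  rw [iCycles_cyclesMap_apply, iCycles_pairCycle, iCycles_cyclesMap_apply]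
  exact tmap_ι_tmul L f _ _ n ij.2 _ _

theorem unique {n : ℤ} {Φ Φ'} (hΦ : HTor.IsKunnethMap K L n Φ) (hΦ' : HTor.IsKunnethMap K L n Φ') : Φ = Φ' := by
  refine DirectSum.linearMap_ext A fun ij => TensorProduct.ext' fun a b => ?_
  obtain ⟨z, rfl⟩ := homologyπ_surjective K ij.1.1 a
  obtain ⟨z', rfl⟩ := homologyπ_surjective L ij.1.2 b
  exact (lof_apply hΦ ij (z ⊗ₜ z')).trans (lof_apply hΦ' ij (z ⊗ₜ z')).symm

end Groth.Agent.H26Tor.Kunneth
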