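import Groth.Agent.H26Tor.Kunneth.Cover
import Groth.Agent.H26Tor.Hyper
import Mathlib.Algebra.Homology.HomologicalComplexAbelian
import Mathlib.Algebra.Homology.HomologySequence

/-! One step of the Künneth filtration. -/

set_option autoImplicit false

universe u

open CategoryTheory CategoryTheory.Limits MonoidalCategory TensorProduct
open Groth.Agent.H16Derived Groth.Agent.H4DR

namespace Groth.Agent.H26Tor.Kunneth

variable {A : Type u} [CommRing A]

section

variable (M : DRing.Cx A)

instance epi_π : Epi (Cover.π M) :=
  HomologicalComplex.epi_of_epi_f _ fun j => (ModuleCat.epi_iff_surjective _).2 (Cover.π_surjective M j)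

/-- The kernel of the cover. -/
noncomputable abbrev next : DRing.Cx A := kernel (Cover.π M)

/-- The inclusion of the kernel of the cover. -/
noncomputable abbrev nextι : next M ⟶ Cover.cx M := kernel.ι (Cover.π M)

/-- The short exact sequence of the cover. -/
noncomputable abbrev ses : ShortComplex (DRing.Cx A) :=
  ShortComplex.mk (nextι M) (Cover.π M) (kernel.condition _)

theorem ses_shortExact : (ses M).ShortExact :=
  { exact := ShortComplex.exact_of_f_is_kernel _ (kernelIsKernel _) }

theorem isZero_next (b : ℤ) (hb : DRing.VanishesAbove M b) : DRing.VanishesAbove (next M) b := fun j hj => by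
  haveI : Mono ((nextι M).f j) :=
    ((ses_shortExact M).map_of_exact (HomologicalComplex.eval (ModuleCat.{u} A) (ComplexShape.up ℤ) j)).mono_f
  exact IsZero.of_mono ((nextι M).f j) (Cover.isZero_X M b hb j hj)

theorem homology_ι_injective (j : ℤ) :
    Function.Injective (HomologicalComplex.homologyMap (nextι M) j) := by
  rw [injective_iff_map_eq_zero]
  intro x hx
  obtain ⟨y, rfl⟩ := (ShortComplex.moduleCat_exact_iff _).1
    ((ses_shortExact M).homology_exact₁ (j - 1) j (by simp)) x hx
  obtain ⟨y', rfl⟩ := Cover.homology_π_surjective M (j - 1) y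
  exact LinearMap.congr_fun (congrArg ModuleCat.Hom.hom ((ses_shortExact M).comp_δ (j - 1) j (by simp))) y'

theorem homology_exact (j : ℤ) (x : (Cover.cx M).homology j) :
    HomologicalComplex.homologyMap (Cover.π M) j x = 0 ↔
      ∃ y, HomologicalComplex.homologyMap (nextι M) j y = x := by
  refine ⟨(ShortComplex.moduleCat_exact_iff _).1 ((ses_shortExact M).homology_exact₂ j) x, ?_⟩
  rintro ⟨y, rfl⟩
  rw [← ConcreteCategory.comp_apply, ← HomologicalComplex.homologyMap_comp, kernel.condition,
    HomologicalComplex.homologyMap_zero]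
  rfl

end

variable (L : DRing.Cx A) (hL : DRing.TermwiseFlat L)

/-- The Künneth map. -/
noncomputable def kmap (M : DRing.Cx A) (n : ℤ) :
    HTor.KunnethSum L M n →ₗ[A] ((HTor.tensorCx L M).homology n : Type u) :=
  (exists_isKunnethMap L M n).choose

theorem kmap_spec (M : DRing.Cx A) (n : ℤ) : HTor.IsKunnethMap L M n (kmap L M n) :=
  (exists_isKunnethMap L M n).choose_spec

theorem kmap_naturality {M M' : DRing.Cx A} (f : M ⟶ M') (n : ℤ) (x : HTor.KunnethSum L M n) :
    HomologicalComplex.homologyMap (tmap L f) n (kmap L M n x) = kmap L M' n (sumMap L f n x) :=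
  LinearMap.congr_fun (naturality f (kmap_spec L M n) (kmap_spec L M' n)) x

theorem sumMap_comp_apply {M M' M'' : DRing.Cx A} (f : M ⟶ M') (g : M' ⟶ M'') (n : ℤ) (x : HTor.KunnethSum L M n) :
    sumMap L g n (sumMap L f n x) = sumMap L (f ≫ g) n x := by
  refine DirectSum.ext_component A fun c => ?_
  simp only [← DirectSum.apply_eq_component, sumMap, DirectSum.lmap_apply, ← LinearMap.lTensor_comp_apply,
    ← ModuleCat.hom_comp, ← HomologicalComplex.homologyMap_comp]

theorem sumMap_zero_apply {M M' : DRing.Cx A} (n : ℤ) (x : HTor.KunnethSum L M n) :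
    sumMap L (0 : M ⟶ M') n x = 0 := by
  refine DirectSum.ext_component A fun c => ?_
  simp [← DirectSum.apply_eq_component, sumMap]

theorem sumMap_surjective {M M' : DRing.Cx A} (f : M ⟶ M') (n : ℤ)
    (h : ∀ j, Function.Surjective (HomologicalComplex.homologyMap f j)) : Function.Surjective (sumMap L f n) :=
  (DirectSum.lmap_surjective _).2 fun c => LinearMap.lTensor_surjective _ (h c.1.2)

include hL in
theorem shortExact_tensor (S : ShortComplex (DRing.Cx A)) (hS : S.ShortExact) :
    (S.map (KFlat.tot (KFlatMod.bi A) L)).ShortExact := by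
  refine KFlat.shortExact_tot (KFlatMod.bi A) L S fun p q => ?_
  haveI : Module.Flat A (L.X p) := hL p
  have hq := hS.map_of_exact (HomologicalComplex.eval (ModuleCat.{u} A) (ComplexShape.up ℤ) q)
  refine { exact := Module.Flat.lTensor_shortComplex_exact (L.X p) _ hq.exact, mono_f := ?_, epi_g := ?_ }
  · exact (ModuleCat.mono_iff_injective _).2
      (Module.Flat.lTensor_preserves_injective_linearMap _ hq.moduleCat_injective_f)
  · exact (ModuleCat.epi_iff_surjective _).2 (LinearMap.lTensor_surjective _ hq.moduleCat_surjective_g)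

/-- The short exact sequence of the cover, tensored with `L`. -/
noncomputable abbrev tses (M : DRing.Cx A) : ShortComplex (DRing.Cx A) :=
  (ses M).map (KFlat.tot (KFlatMod.bi A) L)

include hL in
theorem tses_shortExact (M : DRing.Cx A) : (tses L M).ShortExact :=
  shortExact_tensor L hL _ (ses_shortExact M)

variable {L}

include hL in
theorem kmap_cx_bijective (a : ℤ) (ha : DRing.VanishesAbove L a) (M : DRing.Cx A) (n : ℤ) :
    Function.Bijective (kmap L (Cover.cx M) n) := by
  have hq : QuasiIso (tmap L (Cover.incl M)) := by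
    have hk := KFlatMod.isKFlat_flip (KFlatMod.isKFlat_of_boundedAbove L a ha hL)
    exact KFlat.quasiIso_tot_map_of_isKFlat_left (KFlatMod.bi A) L (Cover.incl M)
      fun W hW => KFlat.acyclic_tot_of_isKFlat_flip hk hW
  have h1 : Function.Bijective (HomologicalComplex.homologyMap (tmap L (Cover.incl M)) n) :=
    ConcreteCategory.bijective_of_isIso _
  have h2 : Function.Bijective (sumMap L (Cover.incl M) n) := by
    have hc : ∀ c : HTor.Antidiag n, Function.Bijective (LinearMap.lTensor (L.homology c.1.1 : Type u)
        (HomologicalComplex.homologyMap (Cover.incl M) c.1.2).hom) := fun c =>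
      ((LinearEquiv.ofBijective _ (Cover.incl_bijective M c.1.2)).lTensor (L.homology c.1.1 : Type u)).bijective
    exact ⟨(DirectSum.lmap_injective _).2 fun c => (hc c).1, (DirectSum.lmap_surjective _).2 fun c => (hc c).2⟩
  have h3 := bijective_of_zero_d (Cover.zero_d M) (Cover.flat_zero M) (kmap_spec L (Cover.zero M) n)
  rw [← Function.Bijective.of_comp_iff (kmap L (Cover.cx M) n) h2]
  rw [show kmap L (Cover.cx M) n ∘ sumMap L (Cover.incl M) n =
    HomologicalComplex.homologyMap (tmap L (Cover.incl M)) n ∘ kmap L (Cover.zero M) n from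
      funext fun x => (kmap_naturality L (Cover.incl M) n x).symm]
  exact h1.comp h3

theorem tses_exact₂ (M : DRing.Cx A) (hT : (tses L M).ShortExact) (n : ℤ)
    (x : (HTor.tensorCx L (Cover.cx M)).homology n) (hx : HomologicalComplex.homologyMap (tmap L (Cover.π M)) n x = 0) :
    ∃ y, HomologicalComplex.homologyMap (tmap L (nextι M)) n y = x :=
  (ShortComplex.moduleCat_exact_iff _).1 (hT.homology_exact₂ n) x hx

include hL in
/-- The range of the Künneth map is the kernel of the connecting map. -/
theorem ker_δ_eq_range (a : ℤ) (ha : DRing.VanishesAbove L a) (M : DRing.Cx A) (n n' : ℤ) (h : n + 1 = n')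
    (x : (HTor.tensorCx L M).homology n) :
    (tses_shortExact L hL M).δ n n' h x = 0 ↔ ∃ y, kmap L M n y = x := by
  constructor
  · intro hx
    obtain ⟨y, hy⟩ := (ShortComplex.moduleCat_exact_iff _).1 ((tses_shortExact L hL M).homology_exact₃ n n' h) x hx
    change HomologicalComplex.homologyMap (tmap L (Cover.π M)) n y = x at hy
    obtain ⟨u, rfl⟩ := (kmap_cx_bijective hL a ha M n).2 y
    exact ⟨_, (kmap_naturality L (Cover.π M) n u).symm.trans hy⟩
  · rintro ⟨y, rfl⟩
    obtain ⟨u, rfl⟩ := sumMap_surjective L (Cover.π M) n (Cover.homology_π_surjective M) y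
    rw [← kmap_naturality]
    exact LinearMap.congr_fun (congrArg ModuleCat.Hom.hom ((tses_shortExact L hL M).comp_δ n n' h)) _

include hL in
/-- Injectivity of the Künneth map from surjectivity at the kernel of the cover. -/
theorem kmap_injective (a : ℤ) (ha : DRing.VanishesAbove L a) (M : DRing.Cx A) (n : ℤ)
    (h : Function.Surjective (kmap L (next M) n)) : Function.Injective (kmap L M n) := by
  rw [injective_iff_map_eq_zero]
  intro x hx
  obtain ⟨y, rfl⟩ := sumMap_surjective L (Cover.π M) n (Cover.homology_π_surjective M) x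
  rw [← kmap_naturality] at hx
  obtain ⟨z, hz⟩ := tses_exact₂ M (tses_shortExact L hL M) n _ hx
  obtain ⟨u, rfl⟩ := h z
  rw [kmap_naturality] at hz
  rw [← (kmap_cx_bijective hL a ha M n).1 hz, sumMap_comp_apply, kernel.condition, sumMap_zero_apply]

end Groth.Agent.H26Tor.Kunneth
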