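import Groth.Agent.H26Tor.Kunneth.Map
import Mathlib.RingTheory.Flat.Basic
import Mathlib.LinearAlgebra.TensorProduct.RightExactness

/-! The Künneth map for a complex of flat modules with zero differential. -/

set_option autoImplicit false

universe u

open CategoryTheory CategoryTheory.Limits MonoidalCategory TensorProduct

namespace Groth.Agent.H26Tor.Kunneth

variable {A : Type u} [CommRing A] (K Q : DRing.Cx A)

/-- The terms of total degree `n`. -/
abbrev Terms (n : ℤ) : Type u :=
  DirectSum (HTor.Antidiag n) fun ij => (K.X ij.1.1 : Type u) ⊗[A] (Q.X ij.1.2 : Type u)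

/-- The decomposition of a term of the tensor product. -/
noncomputable def decompose (n : ℤ) : (HTor.tensorCx K Q).X n ⟶ ModuleCat.of A (Terms K Q n) :=
  HomologicalComplex.mapBifunctorDesc fun i j h =>
    ModuleCat.ofHom (DirectSum.lof A (HTor.Antidiag n)
      (fun ij => (K.X ij.1.1 : Type u) ⊗[A] (Q.X ij.1.2 : Type u)) ⟨(i, j), h⟩)

theorem decompose_ι (n : ℤ) (ij : HTor.Antidiag n) (x : (K.X ij.1.1 : Type u) ⊗[A] (Q.X ij.1.2 : Type u)) :
    decompose K Q n (ι K Q ij.1.1 ij.1.2 n ij.2 x) = DirectSum.lof A _ _ ij x :=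
  by
  show (HomologicalComplex.ιMapBifunctor K Q (curriedTensor (ModuleCat.{u} A)) (ComplexShape.up ℤ)
    ij.1.1 ij.1.2 n ij.2 ≫ decompose K Q n).hom x = _
  unfold decompose
  rw [HomologicalComplex.ι_mapBifunctorDesc]
  rfl

/-- The sum of the inclusions. -/
noncomputable def compose (n : ℤ) : Terms K Q n →ₗ[A] ((HTor.tensorCx K Q).X n : Type u) :=
  DirectSum.toModule A _ _ fun ij => ι K Q ij.1.1 ij.1.2 n ij.2

theorem compose_decompose (n : ℤ) (w : (HTor.tensorCx K Q).X n) : compose K Q n (decompose K Q n w) = w := by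
  have h : decompose K Q n ≫ ModuleCat.ofHom (compose K Q n) = 𝟙 _ := by
    refine HomologicalComplex.mapBifunctor.hom_ext fun i j h => ModuleCat.hom_ext (LinearMap.ext fun x => ?_)
    show compose K Q n (decompose K Q n (ι K Q i j n h x)) = ι K Q i j n h x
    erw [decompose_ι K Q n ⟨(i, j), h⟩ x]
    exact DirectSum.toModule_lof A _ _
  exact congrArg (fun f => f.hom w) h

variable {K Q}

theorem d_ι_of_zero (hQ : ∀ j, Q.d j (j + 1) = 0) (i j n i' n' : ℤ) (hi : i + 1 = i') (h : i + j = n)
    (hn : n + 1 = n') (x : (K.X i : Type u) ⊗[A] (Q.X j : Type u)) :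
    (HTor.tensorCx K Q).d n n' (ι K Q i j n h x) =
      ι K Q i' j n' (by omega) (LinearMap.rTensor (Q.X j) (K.d i i').hom x) := by
  induction x using TensorProduct.induction_on with
  | zero => simp
  | add a b ha hb => simp [ha, hb]
  | tmul x y =>
    rw [d_ι_tmul K Q i j n i' (j + 1) n' hi rfl h hn, hQ]
    simp

/-- The component of the differential. -/
theorem decompose_d (hQ : ∀ j, Q.d j (j + 1) = 0) (i j n i' n' : ℤ) (hi : i + 1 = i') (h : i + j = n)
    (hn : n + 1 = n') (w : (HTor.tensorCx K Q).X n) :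
    DirectSum.component A _ _ (⟨(i', j), by omega⟩ : HTor.Antidiag n') (decompose K Q n' ((HTor.tensorCx K Q).d n n' w)) =
      LinearMap.rTensor (Q.X j) (K.d i i').hom
        (DirectSum.component A _ _ (⟨(i, j), h⟩ : HTor.Antidiag n) (decompose K Q n w)) := by
  conv_lhs => rw [← compose_decompose K Q n w]
  induction decompose K Q n w using DirectSum.induction_on with
  | zero => simp
  | add a b ha hb => simp only [map_add, ha, hb]
  | of ab x =>
    rw [← DirectSum.lof_eq_of A]
    rw [compose, DirectSum.toModule_lof, d_ι_of_zero hQ ab.1.1 ab.1.2 n (ab.1.1 + 1) n' rfl ab.2 hn]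
    erw [decompose_ι K Q n' ⟨(ab.1.1 + 1, ab.1.2), by have := ab.2; omega⟩]
    by_cases hab : ab.1 = (i, j)
    · obtain rfl : ab = ⟨(i, j), h⟩ := Subtype.ext hab
      subst hi
      erw [DirectSum.component.lof_self, DirectSum.component.lof_self]
    · have h1 : (⟨(ab.1.1 + 1, ab.1.2), by have := ab.2; omega⟩ : HTor.Antidiag n') ≠ ⟨(i', j), by omega⟩ := by
        intro e
        apply hab
        have e' := congrArg Subtype.val e
        simp only [Prod.mk.injEq] at e'
        exact Prod.ext (by omega) e'.2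
      have h2 : ab ≠ ⟨(i, j), h⟩ := fun e => hab (congrArg Subtype.val e)
      rw [← DirectSum.apply_eq_component, ← DirectSum.apply_eq_component, DirectSum.lof_eq_of, DirectSum.lof_eq_of,
        DirectSum.of_eq_of_ne _ _ _ h1.symm, DirectSum.of_eq_of_ne _ _ _ h2.symm, map_zero]

theorem iCycles_bijective (hQ : ∀ j, Q.d j (j + 1) = 0) (j : ℤ) : Function.Bijective (Q.iCycles j).hom :=
  ⟨iCycles_injective Q j, fun x => exists_cycle Q j (j + 1) rfl x (by rw [hQ]; rfl)⟩

variable (K Q) in
/-- Sums of products of cycles. -/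
noncomputable def pairs (n : ℤ) : DirectSum (HTor.Antidiag n)
      (fun ij => (K.cycles ij.1.1 : Type u) ⊗[A] (Q.cycles ij.1.2 : Type u)) →ₗ[A]
      ((HTor.tensorCx K Q).cycles n : Type u) :=
  DirectSum.toModule A _ _ fun ij => pairCycle K Q _ _ n ij.2

theorem iCycles_pairs (n : ℤ) (u) :
    (HTor.tensorCx K Q).iCycles n (pairs K Q n u) =
      compose K Q n (DirectSum.lmap (fun ij => TensorProduct.map (K.iCycles ij.1.1).hom (Q.iCycles ij.1.2).hom) u) := by
  induction u using DirectSum.induction_on with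
  | zero => simp
  | add a b ha hb => simp only [map_add, ha, hb]
  | of ij x =>
    rw [← DirectSum.lof_eq_of A, DirectSum.lmap_lof, pairs, compose, DirectSum.toModule_lof, DirectSum.toModule_lof,
      iCycles_pairCycle]
    rfl

theorem apply_lmap_homologyπ {n : ℤ} {Φ} (hΦ : HTor.IsKunnethMap K Q n Φ) (u) :
    Φ (DirectSum.lmap (fun ij => TensorProduct.map (K.homologyπ ij.1.1).hom (Q.homologyπ ij.1.2).hom) u) =
      (HTor.tensorCx K Q).homologyπ n (pairs K Q n u) := by
  induction u using DirectSum.induction_on with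
  | zero => simp
  | add a b ha hb => simp only [map_add, ha, hb]
  | of ij x =>
    rw [← DirectSum.lof_eq_of A, DirectSum.lmap_lof, pairs, DirectSum.toModule_lof]
    exact lof_apply hΦ ij x

theorem bijective_of_zero_d (hQ : ∀ j, Q.d j (j + 1) = 0) (hflat : ∀ j, Module.Flat A (Q.X j)) {n : ℤ} {Φ}
    (hΦ : HTor.IsKunnethMap K Q n Φ) : Function.Bijective Φ := by
  have hi : ∀ i j, Function.Injective (TensorProduct.map (K.iCycles i).hom (Q.iCycles j).hom) := fun i j => by
    haveI := hflat j
    rw [show TensorProduct.map (K.iCycles i).hom (Q.iCycles j).hom =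
      (K.iCycles i).hom.rTensor (Q.X j) ∘ₗ (Q.iCycles j).hom.lTensor (K.cycles i) from
        (LinearMap.rTensor_comp_lTensor _ _ _).symm]
    exact (Module.Flat.rTensor_preserves_injective_linearMap _ (iCycles_injective K i)).comp
      ((LinearEquiv.ofBijective _ (iCycles_bijective hQ j)).lTensor (K.cycles i : Type u)).injective
  constructor
  · rw [injective_iff_map_eq_zero]
    intro x hx
    obtain ⟨u, rfl⟩ := (DirectSum.lmap_surjective _).2
      (fun ij : HTor.Antidiag n => TensorProduct.map_surjective (homologyπ_surjective K ij.1.1)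
        (homologyπ_surjective Q ij.1.2)) x
    rw [apply_lmap_homologyπ hΦ] at hx
    obtain ⟨v, hv⟩ := (homologyπ_eq_zero_iff _ (n - 1) n (by omega) _).1 hx
    refine DirectSum.ext_component A fun ij => ?_
    rw [map_zero]
    obtain ⟨⟨i, j⟩, hij⟩ := ij
    change i + j = n at hij
    set v' := DirectSum.component A _ _ (⟨(i - 1, j), by omega⟩ : HTor.Antidiag (n - 1)) (decompose K Q (n - 1) v)
    obtain ⟨v'', hv''⟩ :=
      ((LinearEquiv.ofBijective _ (iCycles_bijective hQ j)).lTensor (K.X (i - 1) : Type u)).surjective v'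
    have h1 := congrArg (DirectSum.component A _ _ (⟨(i, j), hij⟩ : HTor.Antidiag n)) (congrArg (decompose K Q n) hv)
    rw [decompose_d hQ (i - 1) j (n - 1) i n (by omega) (by omega) (by omega), iCycles_pairs] at h1
    have h2 : decompose K Q n (compose K Q n
        (DirectSum.lmap (fun ij => TensorProduct.map (K.iCycles ij.1.1).hom (Q.iCycles ij.1.2).hom) u)) =
        DirectSum.lmap (fun ij => TensorProduct.map (K.iCycles ij.1.1).hom (Q.iCycles ij.1.2).hom) u := by
      refine LinearMap.congr_fun (f := (decompose K Q n).hom ∘ₗ compose K Q n) (g := LinearMap.id) ?_ _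
      refine DirectSum.linearMap_ext A fun ab => LinearMap.ext fun y => ?_
      show decompose K Q n (compose K Q n (DirectSum.lof A _ _ ab y)) = _
      rw [compose, DirectSum.toModule_lof, decompose_ι]
      rfl
    rw [h2, ← DirectSum.apply_eq_component, DirectSum.lmap_apply] at h1
    rw [← DirectSum.apply_eq_component, DirectSum.lmap_apply]
    have h3 : u ⟨(i, j), hij⟩ = LinearMap.rTensor (Q.cycles j) (K.toCycles (i - 1) i).hom v'' := by
      refine hi i j (h1.trans ?_)
      refine (congrArg (LinearMap.rTensor (Q.X j) (K.d (i - 1) i).hom) hv''.symm).trans ?_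
      show (LinearMap.rTensor _ _ ∘ₗ LinearMap.lTensor _ (Q.iCycles j).hom) v'' =
        (TensorProduct.map _ _ ∘ₗ LinearMap.rTensor _ _) v''
      rw [LinearMap.rTensor_comp_lTensor, LinearMap.map_comp_rTensor]
      congr 2
      exact (congrArg ModuleCat.Hom.hom (K.toCycles_i (i - 1) i)).symm
    rw [h3]
    show (TensorProduct.map _ _ ∘ₗ LinearMap.rTensor _ _) v'' = 0
    rw [LinearMap.map_comp_rTensor, ← ModuleCat.hom_comp, K.toCycles_comp_homologyπ]
    simp
  · intro y
    obtain ⟨w, rfl⟩ := homologyπ_surjective _ n y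
    have hc : ∀ ij : HTor.Antidiag n, ∃ u : (K.cycles ij.1.1 : Type u) ⊗[A] (Q.cycles ij.1.2 : Type u),
        TensorProduct.map (K.iCycles ij.1.1).hom (Q.iCycles ij.1.2).hom u =
          DirectSum.component A _ _ ij (decompose K Q n ((HTor.tensorCx K Q).iCycles n w)) := by
      rintro ⟨⟨i, j⟩, hij⟩
      change i + j = n at hij
      haveI := hflat j
      have h1 := decompose_d hQ i j n (i + 1) (n + 1) rfl hij rfl ((HTor.tensorCx K Q).iCycles n w)
      rw [d_iCycles_apply, map_zero, map_zero] at h1
      obtain ⟨u, hu⟩ := (Module.Flat.rTensor_exact (Q.X j : Type u) (f := (K.iCycles i).hom)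
        (g := (K.d i (i + 1)).hom)
        ((ShortComplex.ShortExact.moduleCat_exact_iff_function_exact _).1
          (ShortComplex.exact_of_f_is_kernel (ShortComplex.mk _ _ (K.iCycles_d i (i + 1)))
            (K.cyclesIsKernel i (i + 1) ((ComplexShape.up ℤ).next_eq' rfl)))) _).1 h1.symm
      obtain ⟨u', hu'⟩ :=
        ((LinearEquiv.ofBijective _ (iCycles_bijective hQ j)).lTensor (K.cycles i : Type u)).surjective u
      refine ⟨u', ?_⟩
      rw [← hu, ← hu']
      exact (LinearMap.congr_fun (LinearMap.rTensor_comp_lTensor _ _ _) u').symm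
    obtain ⟨u, hu⟩ : ∃ u, DirectSum.lmap (fun ij => TensorProduct.map (K.iCycles ij.1.1).hom (Q.iCycles ij.1.2).hom) u =
        decompose K Q n ((HTor.tensorCx K Q).iCycles n w) := by
      have : ∀ x : Terms K Q n, (∀ ij, DirectSum.component A _ _ ij x ∈
          LinearMap.range (TensorProduct.map (K.iCycles ij.1.1).hom (Q.iCycles ij.1.2).hom)) →
          x ∈ LinearMap.range (DirectSum.lmap fun ij : HTor.Antidiag n =>
            TensorProduct.map (K.iCycles ij.1.1).hom (Q.iCycles ij.1.2).hom) := by
        classical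
        intro x hx
        rw [← DirectSum.sum_support_of x]
        refine Submodule.sum_mem _ fun ij _ => ?_
        obtain ⟨y, hy⟩ := hx ij
        refine ⟨DirectSum.lof A _ _ ij y, ?_⟩
        rw [DirectSum.lmap_lof, hy, DirectSum.lof_eq_of]
        rfl
      exact this _ hc
    refine ⟨DirectSum.lmap (fun ij => TensorProduct.map (K.homologyπ ij.1.1).hom (Q.homologyπ ij.1.2).hom) u, ?_⟩
    rw [apply_lmap_homologyπ hΦ]
    congr 1
    refine iCycles_injective _ _ ?_
    rw [iCycles_pairs, hu, compose_decompose]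

end Groth.Agent.H26Tor.Kunneth
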